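import Mathlib
import Cfsg.Agent.Lib.BCor.Str
import Cfsg.Agent.Lib.Gold.Inputs
import Cfsg.Agent.Lib.SolvStruct.Wielandt1
import Cfsg.Agent.Lib.SolvStruct.Pronormal
import Cfsg.Agent.S0322

/-!
Strongly split (B,N)-pairs of rank one and odd degree.
-/

set_option autoImplicit false

namespace CfsgLib.BCor

open Cfsg Subgroup MulAction

universe u

variable {G : Type u} [Group G] [Finite G]

theorem s0349 (hB : CIT.BenderSimple.{u}) (hA : Gold.AschStmt.{u}) [IsSimpleGroup G]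
    (P : BNPair G) (hrank : P.rank = 1) (U : Subgroup G) (hUB : U ≤ P.B)
    (hUn : (U.subgroupOf P.B).Normal) (hUnil : Group.IsNilpotent U) (hsplit : U ⊔ (P.B ⊓ P.N) = P.B)
    (hdisj : U ⊓ P.N = ⊥) (hind : Odd P.B.index) (hH : Odd (Nat.card ↥(P.B ⊓ P.N))) :
    (∃ (F : Type) (_ : Field F) (_ : Fintype F), (∃ n : ℕ, Fintype.card F = 2 ^ n) ∧
      Nonempty (G ≃* Matrix.ProjectiveSpecialLinearGroup (Fin 2) F)) ∨ IsSuzuki G ∨
      (∃ (F : Type) (_ : Field F) (_ : Fintype F) (n : ℕ), 2 ≤ n ∧ Fintype.card F = (2 ^ n) ^ 2 ∧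
        Nonempty (G ≃* Cfsg.PSU 3 F (2 ^ n))) := by
  obtain ⟨s, hs⟩ := (Nat.card_eq_one_iff_unique.1 hrank).2
  have hsB : s ∉ P.B := fun h => P.conj_ne s hs (Set.ext fun x =>
    ⟨fun ⟨b, hb, e⟩ => e ▸ mul_mem (mul_mem h hb) h, fun hx =>
      ⟨s⁻¹ * x * s⁻¹, mul_mem (mul_mem (inv_mem h) hx) (inv_mem h), by simp [mul_assoc]⟩⟩)
  have hG : ¬ IsMulCommutative G := fun hc => P.conj_ne s hs (Set.ext fun x => by
    have e : ∀ b, s * b * s = s * s * b := fun b => by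
      rw [mul_assoc, hc.is_comm.comm b, mul_assoc]
    exact ⟨fun ⟨b, hb, h⟩ => (e b).symm.trans h ▸ mul_mem (P.sq_mem s hs) hb, fun hx =>
      ⟨(s * s)⁻¹ * x, mul_mem (inv_mem (P.sq_mem s hs)) hx, by simp only [e]; group⟩⟩)
  have hn : P.B ≤ normalizer (U : Set G) := le_normalizer_of_normal_subgroupOf hUB
  have dec : ∀ b ∈ P.B, ∃ u ∈ U, ∃ h ∈ P.B ⊓ P.N, u * h = b := fun b hb => by
    rwa [← hsplit, ← SetLike.mem_coe,
      coe_mul_of_right_le_normalizer_left _ _ (inf_le_left.trans hn)] at hb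
  have htr : ∀ g, g ∉ P.B → ∃ u ∈ U, s⁻¹ * (u * g) ∈ P.B := fun g hg => by
    have hne : ∀ g, g ∉ P.B → ((1 : G) : G ⧸ P.B) ≠ g := fun g hg e =>
      hg (by simpa using QuotientGroup.eq.1 e)
    obtain ⟨b, h1, h2⟩ := is_two_pretransitive_iff.1 (Cfsg.Agent.S0322.result P hrank)
      (hne s hsB) (hne g hg)
    obtain ⟨u, hu, h, hh, rfl⟩ := dec b (by simpa using QuotientGroup.eq.1 h1)
    refine ⟨u⁻¹, inv_mem hu, ?_⟩
    have h3 := P.conj_mem s⁻¹ (inv_mem (P.subset hs)) h hh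
    simpa [mul_assoc] using mul_mem h3 (QuotientGroup.eq.1 h2)
  have key : ∀ z, z ≠ 1 → U ≤ centralizer {z} → z ∈ P.B → ∀ g, g * z * g⁻¹ ∈ P.B → g ∈ P.B :=
    fun z h1 hz hzB g hg => by
    by_contra hgB
    have hc : ∀ u ∈ U, u * z * u⁻¹ = z := fun u hu => by
      rw [mem_centralizer_singleton_iff.1 (hz hu), mul_inv_cancel_right]
    have h2 : s⁻¹ * z * s ∈ P.B := by
      obtain ⟨u, hu, e⟩ := htr g⁻¹ (by simpa using hgB)
      have := mul_mem (mul_mem e hg) (inv_mem e)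
      rw [← hc u hu]
      simpa [mul_assoc] using this
    have h3 : z ∈ P.B.normalCore := fun x => by
      by_cases hx : x ∈ P.B
      · exact mul_mem (mul_mem hx hzB) (inv_mem hx)
      obtain ⟨u, hu, e⟩ := htr x⁻¹ (by simpa using hx)
      have := mul_mem (mul_mem (inv_mem e) h2) e
      rw [← hc u⁻¹ (inv_mem hu)]
      simpa [mul_assoc] using this
    rcases (inferInstance : P.B.normalCore.Normal).eq_bot_or_eq_top with e | e
    · exact h1 (by simpa [e] using h3)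
    · exact hsB (normalCore_le _ (e ▸ mem_top s))
  have hU : 2 ∣ Nat.card U := by
    obtain ⟨b, hb, hb2⟩ := StrEmb.exists_involution_of_even (D := P.B)
      ((Nat.even_mul.1 (P.B.card_mul_index ▸ FT.even_card_of_simple hG)).resolve_right
        (Nat.not_even_iff_odd.2 hind))
    obtain ⟨u, hu, h, hh, rfl⟩ := dec b hb
    have h1 : h * h ∈ U ⊓ P.N := ⟨by
      have := inv_mem (mul_mem hu ((mem_normalizer_iff.1 (hn hh.1) u).1 hu))
      rwa [inv_eq_of_mul_eq_one_right (show _ * (h * h) = 1 by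
        rw [← StrEmb.mul_self_of_orderOf hb2]; group)] at this, mul_mem hh.2 hh.2⟩
    rw [RankOne.eq_one_of_mul_self_eq_one hH hh (by simpa [hdisj] using h1), mul_one] at hb2
    exact hb2 ▸ orderOf_dvd_natCard U hu
  obtain ⟨z, hzU, hz2, hzc⟩ := SolvStruct.exists_central_orderOf_eq hUnil Nat.prime_two hU
  have hZ : ∀ b ∈ P.B, ∀ x ∈ CIT.oz U, b * x * b⁻¹ ∈ CIT.oz U := fun b hb x hx =>
    ⟨(mem_normalizer_iff.1 (hn hb) x).1 hx.1, RankOne.conj_mul_self hx.2.1, fun t ht => by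
      have := hx.2.2 _ ((mem_normalizer_iff.1 (hn (inv_mem hb)) t).1 ht)
      calc _ = b * (b⁻¹ * t * b⁻¹⁻¹ * x) * b⁻¹ := by group
        _ = _ := by rw [this]; group⟩
  have hk : ∀ x ∈ CIT.oz U, x ≠ 1 → ∀ g, g * x * g⁻¹ ∈ P.B → g ∈ P.B := fun x hx h1 =>
    key x h1 (fun u hu => mem_centralizer_singleton_iff.2 (hx.2.2 u hu)) (hUB hx.1)
  obtain ⟨S, h1, h2⟩ : ∃ S : Sylow 2 G, CIT.oz U ≤ S ∧ (S : Subgroup G) ≤ P.B := by
    obtain ⟨S, hS⟩ := (SolvStruct.exists_sylow_le_iff (p := 2)).2 hind.not_two_dvd_nat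
    have h1 : IsPGroup 2 (CIT.oz U) := fun x => ⟨1, Subtype.ext ((sq _).trans x.2.2.1)⟩
    exact ⟨S, le_sup_left.trans (S.is_maximal' (h1.to_sup_of_normal_left' S.isPGroup' fun b hb =>
      mem_normalizer_fintype (hZ b (hS hb))) le_sup_right).le, hS⟩
  obtain ⟨M, hM⟩ := hA G S (CIT.oz U) (fun e => StrEmb.ne_one_of_orderOf hz2 (by
      simpa [e] using show z ∈ CIT.oz U from ⟨hzU, StrEmb.mul_self_of_orderOf hz2,
        fun t ht => mem_centralizer_singleton_iff.1 (hzc ht)⟩))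
    ⟨h1, fun x hx g hg => by
      by_cases e : x = 1
      · simp [e]
      · exact hZ g (hk x hx e g (h2 hg)) x hx⟩
    (ne_top_of_le_ne_top (b := P.B) (fun e => hsB (e ▸ mem_top s)) (iSup_le fun t c hc =>
      hk t t.2.1 (StrEmb.ne_one_of_orderOf t.2.2) c (by
        rw [mem_centralizer_singleton_iff.1 hc, mul_inv_cancel_right]; exact hUB t.2.1.1)))
  rcases (s1792 hB hG M (spe_iff_se.2 hM)).1 with ⟨F, _, _, n, -, h3, h4⟩ | h | h
  · exact Or.inl ⟨F, inferInstance, inferInstance, ⟨n, h3⟩, h4⟩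
  · exact Or.inr (Or.inl (CIT.App.isSuzuki_of_iso h))
  · exact Or.inr (Or.inr h)

end CfsgLib.BCor
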