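import Mathlib
import Cfsg.Agent.Lib.BCor.Str
import Cfsg.Agent.Lib.BCor.Mod
import Cfsg.Agent.Lib.Bender.Simple
import Cfsg.Agent.Lib.BG.AmbSol
import Cfsg.Agent.Lib.Spec.Zsig

/-!
Faithful modules over the field with two elements of a group with a strongly embedded subgroup.
-/

set_option autoImplicit false
set_option linter.unusedSectionVars false

namespace CfsgLib.BCor

open Cfsg Subgroup MulAction CfsgLib.RankOne CfsgLib.Bender CfsgLib.StrEmb

universe u v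

theorem dvd_of_primitive {r n m : ℕ} (hn : 0 < n) (h1 : r ∣ 2 ^ n - 1)
    (h2 : ∀ k, 0 < k → k < n → ¬ r ∣ 2 ^ k - 1) (h : r ∣ 2 ^ m - 1) : n ∣ m := by
  by_contra hd
  refine h2 (n.gcd m) (Nat.gcd_pos_of_pos_left _ hn)
    ((Nat.le_of_dvd hn (Nat.gcd_dvd_left n m)).lt_of_ne fun e => hd (e ▸ Nat.gcd_dvd_right n m)) ?_
  rw [← Nat.pow_sub_one_gcd_pow_sub_one]
  exact Nat.dvd_gcd h1 h

theorem ne_two_of_dvd {r n : ℕ} (hn : 0 < n) (h1 : r ∣ 2 ^ n - 1) : r ≠ 2 := by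
  rintro rfl
  have h2 : 2 ∣ 2 ^ n := dvd_pow_self 2 hn.ne'
  have := Nat.one_le_two_pow (n := n)
  omega

/-- `x` has order `r` and is inverted by an element of square one -/
def Real (G : Type*) [Group G] (r : ℕ) : Prop :=
  ∃ u x : G, u * u = 1 ∧ orderOf x = r ∧ u * x * u⁻¹ = x⁻¹

section setup

variable {G : Type u} {Ω : Type v} [Group G] [Finite G] [MulAction G Ω] {a : Ω} {t : G}
  {Q : Subgroup G}

theorem real_of_dvd_K (hS : IsRankOneSetup G Ω a t Q) {r : ℕ} (hr : r.Prime)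
    (h : r ∣ Nat.card (Zg Q) - 1) : ∃ k ∈ invertedBy (Dg a t) t, orderOf k = r := by
  have : Fact r.Prime := ⟨hr⟩
  rw [card_Kg ft hS, Nat.add_sub_cancel] at h
  obtain ⟨k, hk⟩ := exists_prime_orderOf_dvd_card' r h
  exact ⟨k, (mem_Kg_iff ft hS).1 k.2, by simpa using hk⟩

theorem exists_braid (hS : IsRankOneSetup G Ω a t Q) (h : 3 ∣ Nat.card (Zg Q) - 1) :
    ∃ s ∈ Q, s ≠ 1 ∧ s * s = 1 ∧ t * s * t = s * t * s := by
  obtain ⟨k, hk, h3⟩ := real_of_dvd_K hS Nat.prime_three h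
  have e : k * t * t = k := by rw [mul_assoc, hS.mul_self, mul_one]
  obtain ⟨g, h1, h2⟩ := exists_conj_invol_mul_t hS (u := k * t) (v := t)
    (fun e => mul_t_not_mem_stab hS hk.1.1 (e ▸ one_mem _)) (mul_t_invol_of_inverted hS hk)
    hS.ne_one hS.mul_self (by
      rw [e, ← sq, Ne, ← orderOf_dvd_iff_pow_eq_one, h3]; decide)
  refine ⟨_, invol_mem_Q hS h1.1 h1.2.2, h1.2.1, h1.2.2, braid_of_orderOf_st hS h1.2.2 ?_⟩
  nth_rewrite 2 [← h2]
  rw [conj_mul, e, conj_pow, ← h3, pow_orderOf_eq_one, mul_one, mul_inv_cancel]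

theorem real_of_braid (hS : IsRankOneSetup G Ω a t Q) {s : G} (hs : s ∈ Q) (hs1 : s ≠ 1)
    (hs2 : s * s = 1) (e : t * s * t = s * t * s) {r : ℕ} (hr : r.Prime) (hr2 : r ≠ 2)
    (h : r ∣ Nat.card (Zg Q) + 1) : Real G r := by
  have : Fact r.Prime := ⟨hr⟩
  have hK : ∀ {k}, k ∈ Kg a t ↔ k ∈ invertedBy (Dg a t) t := mem_Kg_iff ft hS
  have hc : ∀ {k z}, k ∈ Kg a t → z ∈ Zg Q → k⁻¹ * z * k ∈ Zg Q := fun hk hz =>
    conj_mem_Zg hS (Kg_le a t hk).1 hz
  have hc' : ∀ {k z}, k ∈ Kg a t → z ∈ Zg Q → k * z * k⁻¹ ∈ Zg Q := fun hk hz => by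
    simpa using hc (inv_mem hk) hz
  have ht : ∀ {k}, k ∈ Kg a t → t * k = k⁻¹ * t := fun hk => t_mul_of_inverted hS (hK.1 hk)
  let Y := closure ((Zg Q : Set G) ∪ Kg a t ∪ {t})
  have hZY : Zg Q ≤ Y := fun _ h => subset_closure (Or.inl (Or.inl h))
  have htY : t ∈ Y := subset_closure (Or.inr rfl)
  have dec : ∀ y ∈ Y, ∃ z ∈ Zg Q, ∃ k ∈ Kg a t, y = z * k ∨ ∃ z' ∈ Zg Q, y = z * k * t * z' := by
    intro y hy
    have key : ∀ x ∈ ((Zg Q : Set G) ∪ Kg a t ∪ {t}), ∀ y, (∃ z ∈ Zg Q, ∃ k ∈ Kg a t, y = z * k ∨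
        ∃ z' ∈ Zg Q, y = z * k * t * z') → ∃ z ∈ Zg Q, ∃ k ∈ Kg a t, x * y = z * k ∨
        ∃ z' ∈ Zg Q, x * y = z * k * t * z' := by
      rintro x ((hx | hx) | rfl) y ⟨z, hz, k, hk, h⟩
      · refine ⟨x * z, mul_mem hx hz, k, hk, h.imp (fun h => ?_) fun ⟨z', hz', h⟩ => ⟨z', hz', ?_⟩⟩ <;>
          simp only [h, mul_assoc]
      · refine ⟨_, hc' hx hz, x * k, mul_mem hx hk, h.imp (fun h => ?_)
          fun ⟨z', hz', h⟩ => ⟨z', hz', ?_⟩⟩ <;> simp [h, mul_assoc]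
      · rcases h with rfl | ⟨z', hz', rfl⟩
        · refine ⟨1, one_mem _, k⁻¹, inv_mem hk, Or.inr ⟨_, hc hk hz, ?_⟩⟩
          rw [one_mul, ← ht hk]; group
        · have e1 : x * (z * k * x * z') = x * z * x * k⁻¹ * z' := by
            rw [mul_assoc (x * z) x, ht (inv_mem hk), inv_inv]; group
          by_cases h1 : z = 1
          · refine ⟨_, hc hk hz', k⁻¹, inv_mem hk, Or.inl ?_⟩
            rw [e1, h1, mul_one, hS.mul_self]; group
          obtain ⟨l, hl, rfl⟩ := exists_conj_s hS hs hs1 hs2 hz h1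
          have hl' := hK.2 hl
          have hsZ : s ∈ Zg Q := mem_Zg_of hs hs2
          refine ⟨_, hc' hl' hsZ, l * l * k, mul_mem (mul_mem hl' hl') hk, Or.inr
            ⟨_, mul_mem (hc' hk (hc' hl' hsZ)) hz', ?_⟩⟩
          have e3 : ∀ {m}, m ∈ Kg a x → m * x * m = x := fun hm => by
            rw [mul_assoc, ht hm, mul_inv_cancel_left]
          calc _ = l * (l⁻¹ * x * l⁻¹) * s * (l * x * l) * l⁻¹ * k⁻¹ * z' := by rw [e1]; group
            _ = l * (x * s * x) * l⁻¹ * k⁻¹ * z' := by rw [e3 hl', e3 (inv_mem hl')]; group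
            _ = l * s * (l * (k * x * k) * l) * s * l⁻¹ * k⁻¹ * z' := by
              rw [e, e3 hk, e3 hl']; group
            _ = _ := by group
    induction hy using closure_induction_left with
    | one => exact ⟨1, one_mem _, 1, one_mem _, Or.inl (by simp)⟩
    | mul_left x hx y _ ih => exact key x hx y ih
    | inv_mul_cancel x hx y _ ih =>
      refine key x⁻¹ ?_ y ih
      rcases hx with (hx | hx) | rfl
      exacts [Or.inl (Or.inl (inv_mem hx)), Or.inl (Or.inr (inv_mem hx)), Or.inr (t_inv hS)]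
  have hidx : (stabilizer Y a).index = Nat.card (Zg Q) + 1 := by
    have hO : orbit Y a = insert a (Set.range fun z : Zg Q => (z : G) • t • a) := by
      refine Set.Subset.antisymm ?_ ?_
      · rintro _ ⟨⟨y, hy⟩, rfl⟩
        obtain ⟨z, hz, k, hk, rfl | ⟨z', hz', rfl⟩⟩ := dec y hy
        · exact Or.inl (mul_mem (hS.le (Zg_le Q hz)) (Kg_le a t hk).1)
        · refine Or.inr ⟨⟨z, hz⟩, ?_⟩
          show _ = (z * k * t * z') • a
          rw [mul_smul, mul_smul, mul_smul, smul_a_of_mem_Q hS (Zg_le Q hz'), (Kg_le a t hk).2]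
      · rintro _ (rfl | ⟨z, rfl⟩)
        · exact mem_orbit_self _
        · exact ⟨⟨z * t, mul_mem (hZY z.2) htY⟩, mul_smul _ _ _⟩
    have hinj : Function.Injective fun z : Zg Q => (z : G) • t • a := fun x y h =>
      Subtype.ext (eq_of_Q_smul_eq hS (ta_ne hS) (Zg_le Q x.2) (Zg_le Q y.2) h)
    rw [index_stabilizer, hO, Set.ncard_insert_of_notMem, Set.ncard_range_of_injective hinj]
    rintro ⟨z, hz⟩
    exact smul_ne_a_of_mem_stab (hS.le (Zg_le Q z.2)) (ta_ne hS) hz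
  obtain ⟨⟨y, hyY⟩, hy⟩ := exists_prime_orderOf_dvd_card' (G := Y) r
    ((hidx ▸ h).trans (index_dvd_card _))
  have hy : orderOf y = r := by simpa using hy
  obtain ⟨z, hz, k, hk, rfl | ⟨z', hz', rfl⟩⟩ := dec y hyY
  · refine ⟨t, k, hS.mul_self, orderOf_eq_prime ?_ fun e => ?_, (hK.1 hk).2⟩
    · have key : ∀ m : ℕ, (z * k) ^ m * (k ^ m)⁻¹ ∈ Zg Q := fun m => by
        induction m with
        | zero => simp
        | succ m ih =>
          have := mul_mem hz (hc' hk ih)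
          rwa [show z * (k * ((z * k) ^ m * (k ^ m)⁻¹) * k⁻¹) =
            (z * k) ^ (m + 1) * (k ^ (m + 1))⁻¹ by rw [pow_succ', pow_succ']; group] at this
      have := key r
      rw [← hy, pow_orderOf_eq_one, one_mul, hy, inv_mem_iff] at this
      exact eq_one_of_mem_Q_of_mem_D hS (Zg_le Q this) (pow_mem (Kg_le a t hk) r)
    · rw [e, mul_one] at hy
      have := orderOf_dvd_of_pow_eq_one ((sq z).trans ((mem_Zg_iff hS).1 hz).2)
      rw [hy, Nat.prime_dvd_prime_iff_eq hr Nat.prime_two] at this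
      exact hr2 this
  · have h1 := mul_t_invol_of_inverted hS (hK.1 hk)
    have h2 := ((mem_Zg_iff hS).1 (mul_mem hz' hz)).2
    refine ⟨k * t, z' * z * (k * t), h1, ?_, ?_⟩
    · rw [← hy, ← orderOf_conj z' (z * k * t * z')]; congr 1; group
    · rw [mul_inv_rev (z' * z), inv_eq_of_mul_eq_one_right h2, mul_assoc, mul_inv_cancel_right,
        inv_eq_of_mul_eq_one_right h1]

theorem exists_real (hS : IsRankOneSetup G Ω a t Q) {N : ℕ} (hN : Nat.card (Zg Q) = 2 ^ N)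
    (h2 : 2 ≤ N) : ∃ r, r.Prime ∧ r ≠ 2 ∧ Real G r ∧ ∀ j, 0 < j → r ∣ 2 ^ (2 * j) - 1 → N ≤ j := by
  rcases Nat.even_or_odd' N with ⟨m, rfl | rfl⟩
  · obtain ⟨r, hr, h1, h3⟩ := Spec.zsigmondy (a := 2) (n := 2 * (2 * m)) one_lt_two (by omega)
      (by omega) (by omega)
    have hr2 := ne_two_of_dvd (by omega) h1
    obtain ⟨s, hs, hs1, hs2, e⟩ := exists_braid hS (by
      rw [hN, pow_mul]; simpa using Nat.sub_dvd_pow_sub_pow 4 1 m)
    refine ⟨r, hr, hr2, real_of_braid hS hs hs1 hs2 e hr hr2 ?_, fun j hj h => ?_⟩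
    · rw [mul_comm, pow_mul, ← one_pow 2, Nat.sq_sub_sq] at h1
      exact hN ▸ ((Nat.Prime.dvd_mul hr).1 h1).resolve_right (h3 _ (by omega) (by omega))
    · have := Nat.le_of_dvd (by omega) (dvd_of_primitive (by omega) h1 h3 h)
      omega
  · obtain ⟨r, hr, h1, h3⟩ := Spec.zsigmondy (a := 2) (n := 2 * m + 1) one_lt_two (by omega)
      (by omega) (by omega)
    obtain ⟨k, hk, hkr⟩ := real_of_dvd_K hS hr (hN ▸ h1)
    refine ⟨r, hr, ne_two_of_dvd (by omega) h1, ⟨t, k, hS.mul_self, hkr, hk.2⟩, fun j hj h => ?_⟩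
    exact Nat.le_of_dvd hj ((Nat.coprime_two_right.2 ⟨m, rfl⟩).dvd_of_dvd_mul_left
      (dvd_of_primitive (by omega) h1 h3 h))

theorem card_le_Zg (hS : IsRankOneSetup G Ω a t Q) {E : Type*} [Group E] (φ : E →* G)
    (hφ : Function.Injective φ) (hE : ∀ x : E, x * x = 1) : Nat.card E ≤ Nat.card (Zg Q) := by
  have h2 : ∀ x : E, φ x * φ x = 1 := fun x => by rw [← map_mul, hE, map_one]
  obtain ⟨c, hc⟩ : ∃ c : Ω, ∀ x : E, φ x • c = c := by
    by_cases h : ∀ x : E, x = 1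
    · exact ⟨a, fun x => by rw [h x, map_one, one_smul]⟩
    push Not at h
    obtain ⟨e, he⟩ := h
    have he' : φ e ≠ 1 := by rwa [Ne, ← map_one φ, hφ.eq_iff]
    obtain ⟨c, hc⟩ := exists_fix_of_invol hS he' (h2 e)
    refine ⟨c, fun x => fix_unique_of_invol hS he' (h2 e) ?_ hc⟩
    have : e * x = x * e := by
      rw [← inv_eq_of_mul_eq_one_right (hE (e * x)), mul_inv_rev, inv_eq_of_mul_eq_one_right (hE _),
        inv_eq_of_mul_eq_one_right (hE _)]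
    rw [← mul_smul, ← map_mul, this, map_mul, mul_smul, hc]
  obtain ⟨g, hg⟩ := exists_smul_eq_pt hS c a
  refine Nat.card_le_card_of_injective (fun x => (⟨g * φ x * g⁻¹, mem_Zg_of (invol_mem_Q hS
    (hg ▸ smul_fix_conj (hc x)) (conj_mul_self (h2 x))) (conj_mul_self (h2 x))⟩ : Zg Q))
    fun x y h => hφ (by simpa using h)

end setup

theorem Real.lift {G G' : Type*} [Group G] [Finite G] [Group G'] {π : G →* G'}
    (hπ : Function.Surjective π) (hk : Odd (Nat.card π.ker)) {r : ℕ} (hr : r.Prime) (hr2 : r ≠ 2)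
    (h : Real G' r) : Real G r := by
  obtain ⟨u', x', h1, h2, h3⟩ := h
  obtain ⟨u₀, rfl⟩ := hπ u'
  obtain ⟨x, rfl⟩ := hπ x'
  obtain ⟨u, hu, e⟩ : ∃ u, u * u = 1 ∧ π u = π u₀ := by
    refine ⟨u₀ ^ Nat.card π.ker, ?_, ?_⟩
    · rw [← Commute.mul_pow (Commute.refl _)]
      exact pow_card_eq_one_of_mem (by rwa [MonoidHom.mem_ker, map_mul])
    · obtain ⟨m, hm⟩ := hk
      rw [map_pow, hm, pow_succ, pow_mul, sq, h1, one_pow, one_mul]
  have hd : r ∣ orderOf (x * u * x⁻¹ * u⁻¹) := by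
    refine dvd_trans ?_ (orderOf_map_dvd π _)
    rw [show π (x * u * x⁻¹ * u⁻¹) = π x * (π u₀ * π x * (π u₀)⁻¹)⁻¹ by simp [e, mul_assoc], h3,
      inv_inv, ← sq, (Nat.Coprime.orderOf_pow (h2 ▸ (Nat.coprime_primes hr Nat.prime_two).2 hr2)), h2]
  refine ⟨u, _, hu, orderOf_pow_orderOf_div (orderOf_pos _).ne' hd, ?_⟩
  rw [← conj_pow, ← inv_pow]
  congr 1
  rw [inv_eq_of_mul_eq_one_right hu]
  calc _ = u * x * u * x⁻¹ * (u * u) := by group
    _ = _ := by rw [hu, mul_inv_rev, mul_inv_rev, mul_inv_rev, inv_eq_of_mul_eq_one_right hu]; group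

theorem Str.exists_setup {G : Type u} [Group G] [Finite G] {H L : Subgroup G} {S : Sylow 2 G}
    (h : Str H S L) : ∃ t, IsRankOneSetup G (G ⧸ H) ((1 : G) : G ⧸ H) t S := by
  obtain ⟨g, -, hg⟩ := SetLike.exists_of_lt (lt_top_iff_ne_top.2 h.se.1)
  have hs : stabilizer G ((1 : G) : G ⧸ H) = H := stabilizer_quotient H
  obtain ⟨t, -, ht⟩ := exists_setup_of_regular (G := G) (a := ((1 : G) : G ⧸ H)) (b := (g : G ⧸ H))
    (Q := S) (fun e => hg (by simpa using QuotientGroup.eq.1 e.symm)) (hs.symm ▸ h.le_H)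
    (fun x hx y hy => by
      rw [hs, h.eq] at hx; exact (mem_normalizer_iff.1 hx y).1 hy)
    (fun c hc => by
      obtain ⟨c, rfl⟩ := QuotientGroup.mk_surjective c
      obtain ⟨v, hv, e⟩ := h.dc g c hg fun e => hc (QuotientGroup.eq.2 (by simpa using e))
      exact ⟨v, hv, (QuotientGroup.eq.2 e).symm⟩)
    (fun x hx e => h.eq_one_of_conj_mem hx hg (by
      simpa [mul_assoc] using QuotientGroup.eq.1 e.symm))
    (hs.symm ▸ h.se.2.1) (by
      rw [show (g : G ⧸ H) = g • ((1 : G) : G ⧸ H) by simp, stabilizer_smul_eq_stabilizer_map_conj, hs]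
      exact h.se.2.2 g hg)
  exact ⟨t, ht⟩

section main

variable {G : Type u} [Group G] [Finite G] {V : Type*} [AddCommGroup V] [Module (ZMod 2) V]
  [Module.Finite (ZMod 2) V] {ρ : Representation (ZMod 2) G V} {H : Subgroup G}

theorem exists_primitive_le (hρ : Function.Injective ρ) {r n : ℕ} (hr : r.Prime) (hn : 0 < n)
    (h1 : r ∣ 2 ^ n - 1) (h2 : ∀ k, 0 < k → k < n → ¬ r ∣ 2 ^ k - 1) (h : r ∣ Nat.card G) :
    n ≤ Module.finrank (ZMod 2) V := by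
  have : Fact r.Prime := ⟨hr⟩
  obtain ⟨x, hx⟩ := exists_prime_orderOf_dvd_card' r h
  exact (Nat.le_of_dvd (Nat.pos_of_ne_zero (rk_ne_zero ρ hρ fun e => hr.ne_one (by
    rw [← hx, e, orderOf_one]))) (dvd_of_primitive hn h1 h2
      (dvd_pow_rk_sub_one ρ hr (ne_two_of_dvd hn h1) hx))).trans (rk_le ρ x)

theorem rank2_bounds (hB : CIT.BenderSimple.{u}) (hH : IsStronglyEmbedded H) (h2 : Rank2 G)
    (hρ : Function.Injective ρ) (S : Sylow 2 G) :
    (∀ k, Nat.card (S : Subgroup G) = 2 ^ k → 2 * k ≤ Module.finrank (ZMod 2) V) ∧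
    ∀ (E : Subgroup G) (n : ℕ), (∀ x ∈ E, x * x = 1) → Nat.card E = 2 ^ n →
      ∀ u : G, orderOf u = 2 → n ≤ rk ρ u := by
  obtain ⟨T, L, h⟩ := exists_str_quot hB hH h2
  obtain ⟨t, hS⟩ := h.exists_setup
  have hO : Odd (Nat.card (pPrimeCore 2 G)) :=
    Nat.coprime_two_right.1 (Core.coprime_card_pPrimeCore 2 G)
  obtain ⟨N, hN⟩ := IsPGroup.iff_card.1 (isPGroup_Zg hS)
  have hE : ∀ (E : Subgroup G) (n : ℕ), (∀ x ∈ E, x * x = 1) → Nat.card E = 2 ^ n → n ≤ N :=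
    fun E n h1 h3 => by
    have := card_le_Zg hS ((QuotientGroup.mk' _).comp E.subtype)
      ((injective_iff_map_eq_one _).2 fun x hx => Subtype.ext
        (eq_one_of_mul_self_eq_one hO ((QuotientGroup.eq_one_iff _).1 hx) (h1 x x.2)))
      fun x => Subtype.ext (h1 x x.2)
    rwa [hN, h3, Nat.pow_le_pow_iff_right one_lt_two] at this
  have hN2 : 2 ≤ N := by
    obtain ⟨x, y, x1, y1, xy, x2, y2, hc⟩ := h2
    obtain ⟨V, hV, -⟩ := TwoGrp.exists_kleinFour x2 y2 hc x1 y1 xy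
    exact hE V 2 (fun v hv => congrArg Subtype.val (IsKleinFour.mul_self (⟨v, hv⟩ : V))) hV.card_four
  have hb : ∀ u : G, orderOf u = 2 → N ≤ rk ρ u := fun u hu => by
    obtain ⟨r, hr, hr2, h3, h4⟩ := exists_real hS hN hN2
    obtain ⟨w, x, hw, hx, e⟩ := h3.lift (QuotientGroup.mk'_surjective _)
      (by rwa [QuotientGroup.ker_mk']) hr hr2
    obtain ⟨j, hj, h5⟩ := exists_rk_eq ρ hw (hx ▸ hr.odd_of_ne_two hr2) e
    have h6 := rk_ne_zero ρ hρ (g := x) fun e => hr.ne_one (by rw [← hx, e, orderOf_one])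
    obtain ⟨g, rfl⟩ := se_isConj hH (orderOf_eq_two hw (by
      rintro rfl
      rw [rk, map_one, sub_self, LinearMap.range_zero, finrank_bot] at hj
      omega)) hu
    rw [rk_conj]
    exact (h4 j (by omega) (h5 ▸ dvd_pow_rk_sub_one ρ hr hr2 hx)).trans hj
  refine ⟨fun k hk => ?_, fun E n h1 h3 u hu => (hE E n h1 h3).trans (hb u hu)⟩
  have hT : Nat.card (T : Subgroup (G ⧸ pPrimeCore 2 G)) = 2 ^ k := by
    rw [← hk, S.card_eq_multiplicity, T.card_eq_multiplicity,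
      card_eq_card_quotient_mul_card_subgroup (pPrimeCore 2 G),
      Nat.factorization_mul Nat.card_pos.ne' Nat.card_pos.ne', Finsupp.add_apply,
      Nat.factorization_eq_zero_of_not_dvd hO.not_two_dvd_nat, add_zero]
  obtain ⟨j, hj⟩ := card_of_K_inv ft hS le_rfl T.isPGroup' (Kg_le_normalizer_Q hS)
  rw [hT, hN, ← pow_mul, Nat.pow_right_inj one_lt_two] at hj
  have hk0 : k ≠ 0 := by
    rintro rfl
    exact h.ne_bot (card_eq_one.1 hT)
  have hk2 : 2 ≤ k := hN2.trans (Nat.le_of_dvd (by omega) ⟨j, hj⟩)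
  by_cases hk3 : k = 3
  · obtain ⟨u, -, hu⟩ := exists_involution_of_even hH.2.1
    have h3 := two_mul_rk_le ρ (mul_self_of_orderOf hu)
    have h4 := hb u hu
    have := (Nat.dvd_prime Nat.prime_three).1 ⟨j, hk3 ▸ hj⟩
    omega
  obtain ⟨r, hr, h1, h3⟩ := Spec.zsigmondy (a := 2) (n := 2 * k) one_lt_two (by omega)
    (by omega) (by omega)
  refine exists_primitive_le hρ hr (by omega) h1 h3 ?_
  rw [mul_comm, pow_mul, ← one_pow 2, Nat.sq_sub_sq] at h1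
  have h4 := ((Nat.Prime.dvd_mul hr).1 h1).resolve_right (h3 _ (by omega) (by omega))
  rw [← hT, ← h.index_eq] at h4
  exact (h4.trans (index_dvd_card _)).trans (card_quotient_dvd_card _)

theorem numeric_aux {k d p a : ℕ} (hd : d < 2 * k) (hk : k ≤ 5) (hp : p.Prime) (hp2 : p ≠ 2)
    (ha : 0 < a) (h1 : 2 ^ k ∣ p ^ a - 1)
    (h2 : p ^ (a + 1) ∣ ∏ i : Fin d, (2 ^ d - 2 ^ (i : ℕ))) : False := by
  have h3 : ∀ d ≤ 9, (∏ i : Fin d, (2 ^ d - 2 ^ (i : ℕ))) ∣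
      2 ^ 36 * (3 ^ 5 * 5 ^ 2 * 7 ^ 3 * 17 ^ 1 * 31 ^ 1 * 73 ^ 1 * 127 ^ 1) := by decide +kernel
  have h4 := ((Nat.coprime_primes hp Nat.prime_two).2 hp2).pow (a + 1) 36 |>.dvd_of_dvd_mul_left
    (h2.trans (h3 d (by omega)))
  have h5 : p ∈ [3, 5, 7, 17, 31, 73, 127] := by
    have h6 := (dvd_pow_self p a.succ_ne_zero).trans h4
    simp only [hp.dvd_mul] at h6
    rcases h6 with (((((h | h) | h) | h) | h) | h) | h <;>
      simp [(Nat.prime_dvd_prime_iff_eq hp (by norm_num)).1 (hp.dvd_of_dvd_pow h)]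
  have h6 : ∀ p ∈ [3, 5, 7, 17, 31, 73, 127],
      ¬ p ^ 6 ∣ 3 ^ 5 * 5 ^ 2 * 7 ^ 3 * 17 ^ 1 * 31 ^ 1 * 73 ^ 1 * 127 ^ 1 := by decide +kernel
  have h7 : ∀ k ≤ 5, ∀ d < 2 * k, ∀ p ∈ [3, 5, 7, 17, 31, 73, 127], ∀ a ≤ 4, 0 < a →
      2 ^ k ∣ p ^ a - 1 → ¬ p ^ (a + 1) ∣ ∏ i : Fin d, (2 ^ d - 2 ^ (i : ℕ)) := by decide +kernel
  exact h7 k hk d hd p h5 a (by
    by_contra h; exact h6 p h5 ((pow_dvd_pow p (by omega)).trans h4)) ha h1 h2

theorem rank1_bound (hH : IsStronglyEmbedded H) (h2 : ¬ Rank2 G) (hρ : Function.Injective ρ)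
    (S : Sylow 2 G) {k : ℕ} (hk : Nat.card (S : Subgroup G) = 2 ^ k) :
    2 * k ≤ Module.finrank (ZMod 2) V := by
  by_contra! hlt
  have hO : Odd (Nat.card (pPrimeCore 2 G)) :=
    Nat.coprime_two_right.1 (Core.coprime_card_pPrimeCore 2 G)
  obtain ⟨t, htS, ht⟩ := exists_involution_of_even (D := (S : Subgroup G))
    (hk ▸ (Nat.even_pow.2 ⟨even_two, by omega⟩))
  have hC : ¬ pPrimeCore 2 G ≤ centralizer {t} := fun hle => by
    obtain ⟨u, huH, hu⟩ := exists_involution_of_even hH.2.1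
    have h3 := sup_centralizer_of_not_rank2 h2 ht
    rw [sup_eq_right.2 hle] at h3
    obtain ⟨g, rfl⟩ := se_isConj hH ht hu
    refine hH.1 (eq_top_iff.2 fun c _ => mem_of_commute hH hu huH ?_)
    have e : ∀ x : G, x * t = t * x := fun x => (h3.ge (mem_top x) t rfl).symm
    rw [e g, mul_inv_cancel_right]
    exact (e c).symm
  obtain ⟨p, hp, hpd, hP⟩ : ∃ p : ℕ, p.Prime ∧ p ∣ Nat.card (pPrimeCore 2 G) ∧
      ∀ P, BG.IsSylowOf p P (pPrimeCore 2 G) → ¬ P ≤ centralizer {t} := by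
    by_contra! hc
    exact hC (BG.le_of_forall_Sylow hc)
  have := IsPGroup.isNilpotent S.isPGroup'
  obtain ⟨P, hP1, hP2⟩ := BG.coprime_Sylow_exists (A := (S : Subgroup G)) (M := pPrimeCore 2 G) hp
    le_normalizer_of_normal (hk ▸ hO.coprime_two_right.pow_right k) (Or.inl inferInstance)
  have : Fact p.Prime := ⟨hp⟩
  have hp2 : p ≠ 2 := by rintro rfl; exact hO.not_two_dvd_nat hpd
  have hfix : ∀ s ∈ (S : Subgroup G), s ≠ 1 → ∀ y : G, y * s = s * y → y ∈ centralizer {t} :=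
    fun s hs h1 y hy => by
    obtain ⟨n, hn1, hn2⟩ := (CIT.two_of_mem S.isPGroup' hs).exists_involution h1
    rw [mem_centralizer_singleton_iff,
      ← eq_of_mem_sylow h2 S.isPGroup' ht (orderOf_eq_two hn2 hn1) htS (pow_mem hs n)]
    exact (Commute.pow_right hy n).eq
  by_cases h0 : P ⊓ centralizer {t} = ⊥
  · have := card_le_finrank_of_frobenius ρ hρ S.isPGroup' (hO.of_dvd_nat (card_dvd_of_le hP1.1))
      (fun e => hP P hP1 (e ▸ bot_le)) hP2 fun s hs h1 y hy e =>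
        mem_bot.1 (h0 ▸ mem_inf.2 ⟨hy, hfix s hs h1 y e⟩)
    have h3 : 2 * k ≤ 2 ^ k := by
      obtain _ | k := k
      · simp
      · rw [pow_succ']; exact Nat.mul_le_mul_left 2 Nat.lt_two_pow_self
    omega
  obtain ⟨b, hb⟩ := IsPGroup.iff_card.1 (BG.Sylow_isPGroup hP1)
  obtain ⟨c, hc⟩ := IsPGroup.iff_card.1 ((BG.Sylow_isPGroup hP1).to_inf_left (K := centralizer {t}))
  have hc0 : c ≠ 0 := by rintro rfl; exact h0 (card_eq_one.1 hc)
  obtain ⟨a, rfl⟩ : ∃ a, b = c + a := Nat.exists_eq_add_of_le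
    ((Nat.pow_dvd_pow_iff_le_right hp.one_lt).1 (hb ▸ hc ▸ card_dvd_of_le inf_le_left))
  have ha0 : a ≠ 0 := by
    rintro rfl
    exact hP P hP1 (inf_eq_left.1 (eq_of_le_of_card_ge inf_le_left (by rw [hb, hc, add_zero])))
  have hdvd : 2 ^ k ∣ p ^ a - 1 := by
    let X : Set G := (P : Set G) \ (P ⊓ centralizer {t} : Subgroup G)
    have hX : ∀ s ∈ (S : Subgroup G), ∀ y ∈ X, s * y * s⁻¹ ∈ X := fun s hs y hy => by
      refine ⟨(mem_normalizer_iff.1 (hP2 hs) y).1 hy.1, fun h => hy.2 ⟨hy.1,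
        mem_centralizer_singleton_iff.2 ?_⟩⟩
      have e : s⁻¹ * t * s = t := eq_of_mem_sylow h2 S.isPGroup' ht (by
        simpa using (orderOf_conj s⁻¹ t).trans ht) htS (mul_mem (mul_mem (inv_mem hs) htS) hs)
      have h4 := mem_centralizer_singleton_iff.1 h.2
      calc _ = s⁻¹ * (s * y * s⁻¹ * t) * s := by nth_rewrite 1 [← e]; group
        _ = _ := by rw [h4]; nth_rewrite 2 [← e]; group
    let _ : MulAction S X :=
      { smul := fun s y => ⟨s * y * (s : G)⁻¹, hX s s.2 y y.2⟩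
        one_smul := fun y => Subtype.ext (by simp [HSMul.hSMul])
        mul_smul := fun s s' y => Subtype.ext (by simp [HSMul.hSMul, mul_assoc]) }
    have h5 := Nat.card_congr (selfEquivOrbitsQuotientProd (G := S) (X := X) fun y =>
      eq_bot_iff.2 fun s hs => by
        by_contra h1
        exact y.2.2 ⟨y.2.1, hfix s s.2 (fun e => h1 (Subtype.ext e)) y
          (mul_inv_eq_iff_eq_mul.1 (congrArg Subtype.val hs)).symm⟩)
    rw [Nat.card_prod, Nat.card_coe_set_eq, Set.ncard_sdiff (SetLike.coe_subset_coe.2 inf_le_left)]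
      at h5
    rw [← Nat.card_coe_set_eq, ← Nat.card_coe_set_eq, SetLike.coe_sort_coe, SetLike.coe_sort_coe,
      hb, hc, hk, pow_add, ← Nat.mul_sub_one] at h5
    exact (((Nat.coprime_primes Nat.prime_two hp).2 hp2.symm).pow k c).dvd_of_dvd_mul_left
      (h5 ▸ dvd_mul_left _ _)
  refine numeric_aux hlt ?_ hp hp2 (by omega) hdvd (((pow_dvd_pow p (by omega)).trans
    (hb ▸ card_subgroup_dvd_card P)).trans (card_dvd_prod ρ hρ))
  by_contra! hk5
  obtain ⟨g, hg⟩ : ∃ g : G, orderOf g = 2 ^ (k - 2 + 1) := by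
    rcases cyclic_or_quaternion_of_not_rank2 h2 S.isPGroup' with h | ⟨m, hm, ⟨e⟩⟩
    · obtain ⟨g, hg⟩ := IsCyclic.exists_ofOrder_eq_natCard (α := (S : Subgroup G))
      refine ⟨g ^ 2, ?_⟩
      rw [orderOf_pow' _ two_ne_zero, orderOf_coe, hg, hk, show k = k - 2 + 1 + 1 by omega,
        pow_succ, Nat.gcd_mul_left_left, Nat.mul_div_cancel _ two_pos]
      congr 1
    · have h6 := Nat.card_congr e.toEquiv
      rw [hk, Nat.card_eq_fintype_card, QuaternionGroup.card, show 4 * 2 ^ m = 2 ^ (m + 2) by ring,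
        Nat.pow_right_inj one_lt_two] at h6
      refine ⟨e.symm (QuaternionGroup.a 1), ?_⟩
      rw [orderOf_coe, MulEquiv.orderOf_eq, QuaternionGroup.orderOf_a_one, h6, Nat.add_sub_cancel,
        pow_succ']
  have h6 := pow_lt_finrank ρ hρ hg
  obtain ⟨m, rfl⟩ : ∃ m, k = m + 6 := ⟨k - 6, by omega⟩
  have h7 : m < 2 ^ m := Nat.lt_two_pow_self
  rw [show m + 6 - 2 = m + 4 by omega, pow_add] at h6
  omega

theorem s3841 (hB : CIT.BenderSimple.{u}) (H : Subgroup G) (hH : IsStronglyEmbedded H)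
    (S : Sylow 2 G) (ρ : Representation (ZMod 2) G V) (hρ : Function.Injective ρ) :
    (∀ k : ℕ, Nat.card ↥(S : Subgroup G) = 2 ^ k → 2 * k ≤ Module.finrank (ZMod 2) V) ∧
    ∀ n : ℕ, (∀ z ∈ (S : Subgroup G) ⊓ centralizer ((S : Subgroup G) : Set G), z ^ 2 = 1) →
      Nat.card ↥((S : Subgroup G) ⊓ centralizer ((S : Subgroup G) : Set G)) = 2 ^ n →
      ∀ s ∈ (S : Subgroup G), s ≠ 1 →
        n ≤ Module.finrank (ZMod 2) ↥(LinearMap.range (ρ s - 1)) := by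
  by_cases h2 : Rank2 G
  · obtain ⟨h3, h4⟩ := rank2_bounds hB hH h2 hρ S
    refine ⟨h3, fun n h5 h6 s hs h1 => ?_⟩
    obtain ⟨m, hm1, hm2⟩ := (CIT.two_of_mem S.isPGroup' hs).exists_involution h1
    exact (h4 _ n (fun x hx => (sq x).symm.trans (h5 x hx)) h6 _
      (orderOf_eq_two hm2 hm1)).trans (rk_pow_le ρ s m)
  refine ⟨fun k hk => rank1_bound hH h2 hρ S hk, fun n h5 h6 s _ h1 => ?_⟩
  refine le_trans ?_ (Nat.pos_of_ne_zero (rk_ne_zero ρ hρ h1))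
  by_contra! hn
  have := Fintype.ofFinite ↥((S : Subgroup G) ⊓ centralizer ((S : Subgroup G) : Set G))
  rw [Nat.card_eq_fintype_card] at h6
  obtain ⟨x, y, z, xy, xz, yz⟩ := (Fintype.two_lt_card_iff (α := ↥((S : Subgroup G) ⊓
    centralizer ((S : Subgroup G) : Set G)))).1 (h6 ▸ (Nat.pow_lt_pow_right one_lt_two hn))
  refine h2 ⟨(x⁻¹ * y : _), (x⁻¹ * z : _), ?_, ?_, ?_, (sq _).symm.trans (h5 _ (x⁻¹ * y).2),
    (sq _).symm.trans (h5 _ (x⁻¹ * z).2), (x⁻¹ * z).2.2 _ (x⁻¹ * y).2.1⟩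
  · simpa [inv_mul_eq_one] using xy
  · simpa [inv_mul_eq_one] using xz
  · simpa using yz

end main

end CfsgLib.BCor
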